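import Mathlib
import Groth.Prelude.Def_CAlgX
import Groth.Agent.Lib.Helper2.QReg

universe u

open TensorProduct

namespace Groth.Agent.Lib.Helper5.QRBC

section general
variable {R : Type*} [CommRing R]

/-- extensions of flat modules are flat -/
theorem flat_of_exact {M' M M'' : Type*} [AddCommGroup M'] [Module R M'] [AddCommGroup M]
    [Module R M] [AddCommGroup M''] [Module R M''] (f : M' →ₗ[R] M) (g : M →ₗ[R] M'')
    (hf : Function.Injective f) (hg : Function.Surjective g) (hfg : Function.Exact f g)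
    [Module.Flat R M'] [Module.Flat R M''] : Module.Flat R M := by
  rw [Module.Flat.iff_rTensor_injective']
  intro I
  rw [injective_iff_map_eq_zero]
  intro z hz
  have h1 : (LinearMap.rTensor M'' I.subtype) ((LinearMap.lTensor I g) z) = 0 := by
    rw [← LinearMap.comp_apply, LinearMap.rTensor_comp_lTensor, ← LinearMap.lTensor_comp_rTensor,
      LinearMap.comp_apply, hz, map_zero]
  have h2 : (LinearMap.lTensor I g) z = 0 :=
    (Module.Flat.iff_rTensor_injective'.1 inferInstance I) (by rw [h1, map_zero])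
  obtain ⟨z', rfl⟩ := (lTensor_exact I hfg hg z).1 h2
  have h3 : (LinearMap.lTensor R f) ((LinearMap.rTensor M' I.subtype) z') = 0 := by
    rw [← LinearMap.comp_apply, LinearMap.lTensor_comp_rTensor, ← LinearMap.rTensor_comp_lTensor,
      LinearMap.comp_apply, hz]
  have h4 : (LinearMap.rTensor M' I.subtype) z' = 0 :=
    (Module.Flat.lTensor_preserves_injective_linearMap f hf) (by rw [h3, map_zero])
  have h5 : z' = 0 :=
    (Module.Flat.iff_rTensor_injective'.1 inferInstance I) (by rw [h4, map_zero])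
  rw [h5, map_zero]

/-- a submodule with flat cokernel stays injective after tensoring -/
theorem lTensor_injective_of_flat_coker {K M F : Type*} [AddCommGroup K] [Module R K]
    [AddCommGroup M] [Module R M] [AddCommGroup F] [Module R F] (f : K →ₗ[R] M) (g : M →ₗ[R] F)
    (hf : Function.Injective f) (hg : Function.Surjective g) (hfg : Function.Exact f g)
    [Module.Flat R F] (N : Type*) [AddCommGroup N] [Module R N] :
    Function.Injective (LinearMap.lTensor N f) := by
  let π : (N →₀ R) →ₗ[R] N := Finsupp.linearCombination R id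
  have hπ : Function.Surjective π := fun x => ⟨Finsupp.single x 1, by simp [π]⟩
  refine lTensor_injective_of_exact_of_exact_of_rTensor_injective
    (M₁ := LinearMap.ker π) (M₂ := (N →₀ R)) (M₃ := N)
    (f₁ := (LinearMap.ker π).subtype) (f₂ := π) (g₁ := f) (g₂ := g) ?_ hπ hfg hg ?_ ?_
  · exact LinearMap.exact_subtype_ker_map π
  · exact Module.Flat.rTensor_preserves_injective_linearMap _ Subtype.val_injective
  · exact Module.Flat.lTensor_preserves_injective_linearMap _ hf

/-- Lemma T -/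
theorem mem_range_lTensor_of_flat {E B : Type*} [AddCommGroup E] [Module R E]
    [AddCommGroup B] [Module R B] (θ : E →ₗ[R] B) (U V : Submodule R B) (hUV : U ≤ V)
    (h1 : ∀ e, θ e ∈ V) (h3 : V ≤ LinearMap.range θ ⊔ U) [Module.Flat R (B ⧸ V)]
    (N : Type*) [AddCommGroup N] [Module R N] (z : N ⊗[R] E)
    (hz : (LinearMap.lTensor N θ) z ∈ LinearMap.range (LinearMap.lTensor N U.subtype)) :
    z ∈ LinearMap.range (LinearMap.lTensor N (U.comap θ).subtype) := by
  set θU : E →ₗ[R] B ⧸ U := U.mkQ ∘ₗ θ with hθU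
  set R₀ : Submodule R (B ⧸ U) := LinearMap.range θU with hR₀
  let ρ : E →ₗ[R] R₀ := θU.rangeRestrict
  have hρ : Function.Surjective ρ := LinearMap.surjective_rangeRestrict θU
  let fac : (B ⧸ U) →ₗ[R] (B ⧸ V) := Submodule.mapQ U V LinearMap.id hUV
  have hfac : Function.Surjective fac := by
    intro y
    obtain ⟨b, rfl⟩ := Submodule.mkQ_surjective V y
    exact ⟨U.mkQ b, rfl⟩
  have hex : Function.Exact R₀.subtype fac := by
    intro y
    constructor
    · intro hy
      obtain ⟨b, rfl⟩ := Submodule.mkQ_surjective U y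
      have hb : b ∈ V := by
        have : V.mkQ b = 0 := hy
        rwa [Submodule.mkQ_apply, Submodule.Quotient.mk_eq_zero] at this
      obtain ⟨_, ⟨e, rfl⟩, u, hu, rfl⟩ := Submodule.mem_sup.1 (h3 hb)
      refine ⟨⟨U.mkQ (θ e), ⟨e, rfl⟩⟩, ?_⟩
      show U.mkQ (θ e) = U.mkQ (θ e + u)
      have hu0 : U.mkQ u = 0 := by
        rw [Submodule.mkQ_apply]; exact (Submodule.Quotient.mk_eq_zero U).2 hu
      rw [map_add, hu0, add_zero]
    · rintro ⟨⟨_, ⟨e, rfl⟩⟩, rfl⟩
      show V.mkQ (θ e) = 0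
      exact (Submodule.Quotient.mk_eq_zero V).2 (h1 e)
  have hinj : Function.Injective (LinearMap.lTensor N R₀.subtype) :=
    lTensor_injective_of_flat_coker R₀.subtype fac Subtype.val_injective hfac hex N
  have hexρ : Function.Exact (U.comap θ).subtype ρ := by
    intro e
    constructor
    · intro he
      have : θU e = 0 := congrArg Subtype.val he
      have he' : θ e ∈ U := (Submodule.Quotient.mk_eq_zero U).1 this
      exact ⟨⟨e, he'⟩, rfl⟩
    · rintro ⟨⟨e, he⟩, rfl⟩
      apply Subtype.ext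
      exact (Submodule.Quotient.mk_eq_zero U).2 he
  have h0 : (LinearMap.lTensor N θU) z = 0 := by
    rw [hθU, LinearMap.lTensor_comp, LinearMap.comp_apply]
    obtain ⟨w, hw⟩ := hz
    rw [← hw, ← LinearMap.comp_apply, ← LinearMap.lTensor_comp]
    have : U.mkQ ∘ₗ U.subtype = 0 := by
      ext u
      exact (Submodule.Quotient.mk_eq_zero U).2 u.2
    rw [this, LinearMap.lTensor_zero, LinearMap.zero_apply]
  have h2 : (LinearMap.lTensor N ρ) z = 0 := by
    apply hinj
    rw [map_zero, ← LinearMap.comp_apply, ← LinearMap.lTensor_comp]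
    exact h0
  exact (lTensor_exact N hexρ hρ z).1 h2

end general


open MvPolynomial

section homog
variable {S : Type*} [CommRing S] (c m : ℕ)

instance free_homogeneousSubmodule : Module.Free S ↥(homogeneousSubmodule (Fin c) S m) :=
  Module.Free.of_equiv
    ((LinearEquiv.ofEq _ _ (homogeneousSubmodule_eq_finsupp_supported (Fin c) S m) ≪≫ₗ
      AddMonoidAlgebra.supportedEquivFinsupp _).symm)

end homog

section QR
variable {B : Type u} [CommRing B] {c : ℕ} (f : Fin c → B)

/-- evaluation at `f` on homogeneous polynomials of degree `m`. -/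
noncomputable def θ (m : ℕ) : ↥(homogeneousSubmodule (Fin c) B m) →ₗ[B] B :=
  (aeval f : MvPolynomial (Fin c) B →ₐ[B] B).toLinearMap.domRestrict _

theorem θ_apply (m : ℕ) (P : ↥(homogeneousSubmodule (Fin c) B m)) :
    θ f m P = eval f (P : MvPolynomial (Fin c) B) := by
  show (aeval f) (P : MvPolynomial (Fin c) B) = _
  exact congrFun (congrArg DFunLike.coe (coe_aeval_eq_eval f)) _

theorem θ_mem (m : ℕ) (P : ↥(homogeneousSubmodule (Fin c) B m)) :
    θ f m P ∈ Ideal.span (Set.range f) ^ m := by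
  rw [θ_apply]
  exact (Ideal.mem_span_pow_iff_exists_isHomogeneous f _).2 ⟨P.1, P.2, rfl⟩

theorem exists_θ_eq (m : ℕ) (b : B) (hb : b ∈ Ideal.span (Set.range f) ^ m) :
    ∃ P, θ f m P = b := by
  obtain ⟨P, hP, rfl⟩ := (Ideal.mem_span_pow_iff_exists_isHomogeneous f _).1 hb
  exact ⟨⟨P, hP⟩, θ_apply f m _⟩

end QR


section flat
variable {A : Type u} {B : Type u} [CommRing A] [CommRing B] [Algebra A B] {c : ℕ} (f : Fin c → B)

theorem smul_top_le_ker (m : ℕ) :
    (Ideal.span (Set.range f) • ⊤ : Submodule B ↥(homogeneousSubmodule (Fin c) B m)) ≤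
      LinearMap.ker ((Ideal.span (Set.range f) ^ (m + 1)).mkQ ∘ₗ θ f m) := by
  rw [Submodule.smul_le]
  intro j hj P _
  rw [LinearMap.mem_ker, LinearMap.comp_apply, Submodule.mkQ_apply, Submodule.Quotient.mk_eq_zero,
    map_smul, smul_eq_mul, pow_succ']
  exact Ideal.mul_mem_mul hj (θ_mem f m P)

/-- the map `E_m / J E_m → B/J^{m+1}`. -/
noncomputable def ψ (m : ℕ) :
    (↥(homogeneousSubmodule (Fin c) B m) ⧸
      (Ideal.span (Set.range f) • ⊤ : Submodule B ↥(homogeneousSubmodule (Fin c) B m))) →ₗ[B]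
      B ⧸ Ideal.span (Set.range f) ^ (m + 1) :=
  Submodule.liftQ _ ((Ideal.span (Set.range f) ^ (m + 1)).mkQ ∘ₗ θ f m) (smul_top_le_ker f m)

theorem ψ_mk (m : ℕ) (P : ↥(homogeneousSubmodule (Fin c) B m)) :
    ψ f m (Submodule.Quotient.mk P) = (Ideal.span (Set.range f) ^ (m + 1)).mkQ (θ f m P) := rfl

theorem mem_smul_top_of_coeff (J : Ideal B) (m : ℕ) (P : ↥(homogeneousSubmodule (Fin c) B m))
    (h : ∀ d, coeff d P.1 ∈ J) :
    P ∈ (J • ⊤ : Submodule B ↥(homogeneousSubmodule (Fin c) B m)) := by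
  classical
  have hdeg : ∀ d ∈ P.1.support, (monomial d (1 : B)) ∈ homogeneousSubmodule (Fin c) B m := by
    intro d hd
    rw [mem_homogeneousSubmodule]
    apply isHomogeneous_monomial
    rw [Finsupp.degree_eq_weight_one]
    exact P.2 (mem_support_iff.1 hd)
  have hP : P = ∑ d ∈ P.1.support.attach,
      (coeff d.1 P.1) • (⟨monomial d.1 (1 : B), hdeg d.1 d.2⟩ :
        ↥(homogeneousSubmodule (Fin c) B m)) := by
    apply Subtype.ext
    rw [AddSubmonoidClass.coe_finsetSum]
    simp only [Submodule.coe_smul, smul_monomial, smul_eq_mul, mul_one]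
    rw [Finset.sum_attach P.1.support (fun d => monomial d (coeff d P.1))]
    exact P.1.as_sum
  rw [hP]
  exact Submodule.sum_mem _ fun d _ => Submodule.smul_mem_smul (h d.1) trivial

theorem ψ_injective (hq : CAlgX.IsQuasiRegular f) (m : ℕ) : Function.Injective (ψ f m) := by
  rw [injective_iff_map_eq_zero]
  intro y hy
  obtain ⟨P, rfl⟩ := Submodule.Quotient.mk_surjective _ y
  rw [ψ_mk, Submodule.mkQ_apply, Submodule.Quotient.mk_eq_zero, θ_apply] at hy
  rw [Submodule.Quotient.mk_eq_zero]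
  exact mem_smul_top_of_coeff _ m P (hq m P.1 P.2 hy)

theorem ψ_exact (m : ℕ) :
    Function.Exact (ψ f m)
      (Submodule.mapQ (Ideal.span (Set.range f) ^ (m + 1)) (Ideal.span (Set.range f) ^ m)
        LinearMap.id (Ideal.pow_le_pow_right (Nat.le_succ m))) := by
  intro y
  constructor
  · intro hy
    obtain ⟨b, rfl⟩ := Submodule.mkQ_surjective _ y
    have hb : b ∈ Ideal.span (Set.range f) ^ m := by
      have : (Ideal.span (Set.range f) ^ m).mkQ b = 0 := hy
      rwa [Submodule.mkQ_apply, Submodule.Quotient.mk_eq_zero] at this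
    obtain ⟨P, hP⟩ := exists_θ_eq f m b hb
    exact ⟨Submodule.Quotient.mk P, by rw [ψ_mk, hP]⟩
  · rintro ⟨z, rfl⟩
    obtain ⟨P, rfl⟩ := Submodule.Quotient.mk_surjective _ z
    rw [ψ_mk]
    show (Ideal.span (Set.range f) ^ m).mkQ (θ f m P) = 0
    rw [Submodule.mkQ_apply, Submodule.Quotient.mk_eq_zero]
    exact θ_mem f m P

theorem flat_quot_smul_top [Module.Flat A (B ⧸ Ideal.span (Set.range f))] (m : ℕ) :
    Module.Flat A (↥(homogeneousSubmodule (Fin c) B m) ⧸
      (Ideal.span (Set.range f) • ⊤ : Submodule B ↥(homogeneousSubmodule (Fin c) B m))) := by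
  haveI : Module.Flat A ((B ⧸ Ideal.span (Set.range f)) ⊗[B] ↥(homogeneousSubmodule (Fin c) B m)) :=
    Module.Flat.trans A (B ⧸ Ideal.span (Set.range f)) _
  exact Module.Flat.of_linearEquiv
    ((TensorProduct.quotTensorEquivQuotSMul ↥(homogeneousSubmodule (Fin c) B m)
      (Ideal.span (Set.range f))).symm.restrictScalars A)

theorem flat_quot_pow (hq : CAlgX.IsQuasiRegular f)
    [Module.Flat A (B ⧸ Ideal.span (Set.range f))] (m : ℕ) :
    Module.Flat A (B ⧸ Ideal.span (Set.range f) ^ m) := by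
  induction m with
  | zero =>
    rw [pow_zero, Ideal.one_eq_top]
    haveI : Subsingleton (B ⧸ (⊤ : Ideal B)) := Ideal.Quotient.subsingleton_iff.2 rfl
    infer_instance
  | succ m ih =>
    haveI := ih
    haveI := flat_quot_smul_top (A := A) f m
    refine flat_of_exact ((ψ f m).restrictScalars A)
      ((Submodule.mapQ (Ideal.span (Set.range f) ^ (m + 1)) (Ideal.span (Set.range f) ^ m)
        LinearMap.id (Ideal.pow_le_pow_right (Nat.le_succ m))).restrictScalars A)
      (ψ_injective f hq m) ?_ (ψ_exact f m)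
    intro y
    obtain ⟨b, rfl⟩ := Submodule.mkQ_surjective _ y
    exact ⟨(Ideal.span (Set.range f) ^ (m + 1)).mkQ b, rfl⟩

end flat


section assemble
variable {A B A' : Type u} [CommRing A] [CommRing B] [CommRing A'] [Algebra A B] [Algebra A A']
  {c : ℕ} (f : Fin c → B)

/-- `B → A' ⊗ B`. -/
noncomputable abbrev ι : B →ₐ[A] A' ⊗[A] B := Algebra.TensorProduct.includeRight

/-- the comparison map `A' ⊗ B[X]_n → (A' ⊗ B)[X]`. -/
noncomputable def Φ (n : ℕ) :
    A' ⊗[A] ↥(homogeneousSubmodule (Fin c) B n) →ₗ[A'] MvPolynomial (Fin c) (A' ⊗[A] B) :=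
  LinearMap.liftBaseChange A'
    ((mapAlgHom (ι (A := A) (B := B) (A' := A'))).toLinearMap ∘ₗ
      ((homogeneousSubmodule (Fin c) B n).subtype.restrictScalars A))

theorem Φ_tmul (n : ℕ) (a' : A') (P : ↥(homogeneousSubmodule (Fin c) B n)) :
    Φ (A := A) (A' := A') n (a' ⊗ₜ[A] P) =
      a' • map (ι (A := A) (B := B) (A' := A')).toRingHom P.1 := by
  unfold Φ
  rw [LinearMap.liftBaseChange_tmul]
  rfl

theorem eval_Φ (n : ℕ) (z : A' ⊗[A] ↥(homogeneousSubmodule (Fin c) B n)) :
    eval (fun i => (1 : A') ⊗ₜ[A] f i) (Φ (A := A) (A' := A') n z) =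
      (LinearMap.lTensor A' ((θ f n).restrictScalars A)) z := by
  induction z using TensorProduct.induction_on with
  | zero => simp
  | tmul a' P =>
    rw [Φ_tmul, LinearMap.lTensor_tmul]
    have h1 : eval (fun i => (1 : A') ⊗ₜ[A] f i)
        (map (ι (A := A) (B := B) (A' := A')).toRingHom P.1) =
        (1 : A') ⊗ₜ[A] (eval f P.1) := by
      rw [eval_map]
      have := eval₂_comp_left (ι (A := A) (B := B) (A' := A')).toRingHom (RingHom.id B) f P.1
      rw [RingHom.comp_id] at this
      rw [show (fun i => (1 : A') ⊗ₜ[A] f i) =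
        (⇑(ι (A := A) (B := B) (A' := A')).toRingHom ∘ f) from rfl, ← this]
      rfl
    have h2 : ∀ Q : MvPolynomial (Fin c) (A' ⊗[A] B),
        eval (fun i => (1 : A') ⊗ₜ[A] f i) (a' • Q) =
          a' • eval (fun i => (1 : A') ⊗ₜ[A] f i) Q := by
      intro Q
      rw [Algebra.smul_def, map_mul, Algebra.smul_def, MvPolynomial.algebraMap_apply, eval_C]
    rw [h2, h1, TensorProduct.smul_tmul', smul_eq_mul, mul_one]
    show a' ⊗ₜ[A] eval f P.1 = a' ⊗ₜ[A] (θ f n P)
    rw [θ_apply]
  | add x y hx hy => rw [map_add, map_add, map_add, hx, hy]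

theorem exists_Φ_eq_monomial (n : ℕ) (d : Fin c →₀ ℕ) (hd : d.degree = n) (b' : A' ⊗[A] B) :
    ∃ z, Φ (A := A) (A' := A') (B := B) n z = monomial d b' := by
  induction b' using TensorProduct.induction_on with
  | zero => exact ⟨0, by simp⟩
  | tmul a' b =>
    refine ⟨a' ⊗ₜ[A] ⟨monomial d b, ?_⟩, ?_⟩
    · rw [mem_homogeneousSubmodule]; exact isHomogeneous_monomial _ hd
    · rw [Φ_tmul, map_monomial, smul_monomial]
      congr 1
      show a' • ((1 : A') ⊗ₜ[A] b) = a' ⊗ₜ[A] b
      rw [TensorProduct.smul_tmul', smul_eq_mul, mul_one]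
  | add x y hx hy =>
    obtain ⟨z₁, h₁⟩ := hx
    obtain ⟨z₂, h₂⟩ := hy
    exact ⟨z₁ + z₂, by rw [map_add, h₁, h₂, map_add]⟩

theorem exists_Φ_eq (n : ℕ) (P' : MvPolynomial (Fin c) (A' ⊗[A] B)) (hP' : P'.IsHomogeneous n) :
    ∃ z, Φ (A := A) (A' := A') (B := B) n z = P' := by
  classical
  have : ∀ d ∈ P'.support, ∃ z, Φ (A := A) (A' := A') (B := B) n z = monomial d (coeff d P') := by
    intro d hd
    apply exists_Φ_eq_monomial
    rw [Finsupp.degree_eq_weight_one]
    exact hP' (mem_support_iff.1 hd)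
  choose! z hz using this
  refine ⟨∑ d ∈ P'.support, z d, ?_⟩
  rw [map_sum]
  conv_rhs => rw [P'.as_sum]
  exact Finset.sum_congr rfl hz

theorem span_eq_map (f : Fin c → B) :
    Ideal.span (Set.range fun i => ((1 : A') ⊗ₜ[A] f i : A' ⊗[A] B)) =
      Ideal.map (ι (A := A) (B := B) (A' := A')) (Ideal.span (Set.range f)) := by
  rw [Ideal.map_span, ← Set.range_comp]
  rfl

theorem mul_mem_range (I : Ideal B) (b' : A' ⊗[A] B) (w : A' ⊗[A] ↥(I.restrictScalars A)) :
    b' * (LinearMap.lTensor A' (I.restrictScalars A).subtype) w ∈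
      LinearMap.range (LinearMap.lTensor A' (I.restrictScalars A).subtype) := by
  induction b' using TensorProduct.induction_on with
  | zero => rw [zero_mul]; exact Submodule.zero_mem _
  | tmul a' b =>
    induction w using TensorProduct.induction_on with
    | zero => rw [map_zero, mul_zero]; exact Submodule.zero_mem _
    | tmul a'' u =>
      refine ⟨(a' * a'') ⊗ₜ[A] ⟨b * u.1, I.mul_mem_left b u.2⟩, ?_⟩
      rw [LinearMap.lTensor_tmul, LinearMap.lTensor_tmul]
      show (a' * a'') ⊗ₜ[A] (b * u.1) = a' ⊗ₜ[A] b * a'' ⊗ₜ[A] u.1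
      rw [Algebra.TensorProduct.tmul_mul_tmul]
    | add x y hx hy => rw [map_add, mul_add]; exact Submodule.add_mem _ hx hy
  | add x y hx hy => rw [add_mul]; exact Submodule.add_mem _ hx hy

theorem mem_range_of_mem_map (I : Ideal B) (x : A' ⊗[A] B)
    (hx : x ∈ Ideal.map (ι (A := A) (B := B) (A' := A')) I) :
    x ∈ LinearMap.range (LinearMap.lTensor A' (I.restrictScalars A).subtype) := by
  unfold Ideal.map at hx
  refine Submodule.span_induction ?_ ?_ ?_ ?_ hx
  · rintro _ ⟨u, hu, rfl⟩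
    exact ⟨(1 : A') ⊗ₜ[A] ⟨u, hu⟩, rfl⟩
  · exact Submodule.zero_mem _
  · intro x y _ _ hx hy; exact Submodule.add_mem _ hx hy
  · rintro b' x _ ⟨w, rfl⟩
    exact mul_mem_range I b' w

theorem coeff_Φ_mem (n : ℕ) (J : Ideal B)
    (K : Submodule A ↥(homogeneousSubmodule (Fin c) B n))
    (hK : ∀ P ∈ K, ∀ d, coeff d P.1 ∈ J) (w : A' ⊗[A] ↥K) (d : Fin c →₀ ℕ) :
    coeff d (Φ (A := A) (A' := A') (B := B) n ((LinearMap.lTensor A' K.subtype) w)) ∈
      Ideal.map (ι (A := A) (B := B) (A' := A')) J := by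
  induction w using TensorProduct.induction_on with
  | zero => rw [map_zero, map_zero, coeff_zero]; exact Ideal.zero_mem _
  | tmul a' P =>
    rw [LinearMap.lTensor_tmul, Φ_tmul, coeff_smul, coeff_map, Algebra.smul_def]
    exact Ideal.mul_mem_left _ _ (Ideal.mem_map_of_mem _ (hK P.1 P.2 d))
  | add x y hx hy =>
    rw [map_add, map_add, coeff_add]
    exact Ideal.add_mem _ hx hy

end assemble

theorem main (A B A' : Type u) [CommRing A] [CommRing B]
    [CommRing A'] [Algebra A B] [Algebra A A'] (r : ℕ) (f : Fin r → B)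
    (hflat : Module.Flat A (B ⧸ Ideal.span (Set.range f))) (hq : CAlgX.IsQuasiRegular f) :
    CAlgX.IsQuasiRegular (fun i => ((1 : A') ⊗ₜ[A] f i : TensorProduct A A' B)) := by
  intro n P' hP' hev d
  obtain ⟨z, hz⟩ := exists_Φ_eq (A := A) (A' := A') (B := B) n P' hP'
  set J := Ideal.span (Set.range f) with hJ
  have hflatn : Module.Flat A (B ⧸ (J ^ n).restrictScalars A) := by
    haveI := flat_quot_pow (A := A) f hq n
    exact Module.Flat.of_linearEquiv (Submodule.Quotient.restrictScalarsEquiv A (J ^ n))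
  have hzU : (LinearMap.lTensor A' ((θ f n).restrictScalars A)) z ∈
      LinearMap.range (LinearMap.lTensor A' ((J ^ (n + 1)).restrictScalars A).subtype) := by
    rw [← eval_Φ, hz]
    apply mem_range_of_mem_map
    rw [Ideal.map_pow, ← span_eq_map]
    exact hev
  have h3 := mem_range_lTensor_of_flat ((θ f n).restrictScalars A)
    ((J ^ (n + 1)).restrictScalars A) ((J ^ n).restrictScalars A)
    (Ideal.pow_le_pow_right (Nat.le_succ n)) (fun e => θ_mem f n e)
    (fun b hb => by
      obtain ⟨P, hP⟩ := exists_θ_eq f n b hb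
      exact Submodule.mem_sup_left ⟨P, hP⟩) A' z hzU
  obtain ⟨w, hw⟩ := h3
  have hK : ∀ P ∈ ((J ^ (n + 1)).restrictScalars A).comap ((θ f n).restrictScalars A),
      ∀ d, coeff d P.1 ∈ J := by
    intro P hP
    have : θ f n P ∈ J ^ (n + 1) := hP
    rw [θ_apply] at this
    exact hq n P.1 P.2 this
  have h4 := coeff_Φ_mem (A := A) (A' := A') n J _ hK w d
  rw [hw, hz, ← span_eq_map] at h4
  exact h4

end Groth.Agent.Lib.Helper5.QRBC
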